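import Cfsg.Agent.Lib.TC.D.Fi22a.Tab
import Cfsg.Agent.Lib.TC.D.Fi22a.C0
import Cfsg.Agent.Lib.TC.D.Fi22a.C1
import Cfsg.Agent.Lib.TC.D.Fi22a.C2
import Cfsg.Agent.Lib.TC.D.Fi22a.C3
import Cfsg.Agent.Lib.TC.D.Fi22a.C4
import Cfsg.Agent.Lib.TC.D.Fi22a.P0
import Cfsg.Agent.Lib.TC.D.Fi22a.P1
import Cfsg.Agent.Lib.TC.D.Fi22a.P2
import Cfsg.Agent.Lib.TC.D.Fi22a.P3
import Cfsg.Agent.Lib.TC.D.Fi22a.P4
import Cfsg.Agent.Lib.TC.D.Fi22a.P5
import Cfsg.Agent.Lib.TC.D.Fi22a.P6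
import Cfsg.Agent.Lib.TC.D.Fi22a.P7
import Cfsg.Agent.Lib.TC.D.Fi22a.P8
import Cfsg.Agent.Lib.TC.D.Fi22a.P9
import Cfsg.Agent.Lib.TC.D.Fi22a.P10
import Cfsg.Agent.Lib.TC.D.Fi22a.P11
import Cfsg.Agent.Lib.TC.D.Fi22a.P12
import Cfsg.Agent.Lib.TC.D.Fi22a.P13
import Cfsg.Agent.Lib.TC.D.Fi22a.P14
import Cfsg.Agent.Lib.TC.D.Fi22a.P15
import Cfsg.Agent.Lib.TC.D.Fi22a.P16
import Cfsg.Agent.Lib.TC.D.Fi22a.P17
import Cfsg.Agent.Lib.TC.D.Fi22a.P18
import Cfsg.Agent.Lib.TC.D.Fi22a.P19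
import Cfsg.Agent.Lib.TC.D.Fi22a.P20
import Cfsg.Agent.Lib.TC.D.Fi22a.P21
import Cfsg.Agent.Lib.TC.D.Fi22a.P22
import Cfsg.Agent.Lib.TC.D.Fi22a.P23

namespace Cfsg.Agent.Lib.TC.D.Fi22a.Ok

open Cfsg.Agent.Lib.TC.Core Cfsg.Agent.Lib.TC.Enc Cfsg.Agent.Lib.TC.Pres Cfsg.Agent.Lib.TC.Perm Cfsg.Agent.Lib.TC.Main

set_option maxRecDepth 100000

open Cfsg.Agent.Lib.TC.D.Fi22a.Tab Cfsg.Agent.Lib.TC.G.Fi22

theorem allC0 : cert.chkRange 0 3996 = true := Cfsg.Agent.Lib.TC.D.Fi22a.C0.ok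
theorem allC1 : cert.chkRange 0 8456 = true := Cert.chkRange_join (lo := 0) (a := 3996) (b := 4460) _ allC0 Cfsg.Agent.Lib.TC.D.Fi22a.C1.ok
theorem allC2 : cert.chkRange 0 12026 = true := Cert.chkRange_join (lo := 0) (a := 8456) (b := 3570) _ allC1 Cfsg.Agent.Lib.TC.D.Fi22a.C2.ok
theorem allC3 : cert.chkRange 0 15642 = true := Cert.chkRange_join (lo := 0) (a := 12026) (b := 3616) _ allC2 Cfsg.Agent.Lib.TC.D.Fi22a.C3.ok
theorem allC4 : cert.chkRange 0 18211 = true := Cert.chkRange_join (lo := 0) (a := 15642) (b := 2569) _ allC3 Cfsg.Agent.Lib.TC.D.Fi22a.C4.ok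
theorem allP0 : pt.chkRange rels 0 591 = true := Cfsg.Agent.Lib.TC.D.Fi22a.P0.ok
theorem allP1 : pt.chkRange rels 0 1182 = true := PT.chkRange_join (lo := 0) (a := 591) (b := 591) _ allP0 Cfsg.Agent.Lib.TC.D.Fi22a.P1.ok
theorem allP2 : pt.chkRange rels 0 1773 = true := PT.chkRange_join (lo := 0) (a := 1182) (b := 591) _ allP1 Cfsg.Agent.Lib.TC.D.Fi22a.P2.ok
theorem allP3 : pt.chkRange rels 0 2364 = true := PT.chkRange_join (lo := 0) (a := 1773) (b := 591) _ allP2 Cfsg.Agent.Lib.TC.D.Fi22a.P3.ok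
theorem allP4 : pt.chkRange rels 0 2955 = true := PT.chkRange_join (lo := 0) (a := 2364) (b := 591) _ allP3 Cfsg.Agent.Lib.TC.D.Fi22a.P4.ok
theorem allP5 : pt.chkRange rels 0 3546 = true := PT.chkRange_join (lo := 0) (a := 2955) (b := 591) _ allP4 Cfsg.Agent.Lib.TC.D.Fi22a.P5.ok
theorem allP6 : pt.chkRange rels 0 4137 = true := PT.chkRange_join (lo := 0) (a := 3546) (b := 591) _ allP5 Cfsg.Agent.Lib.TC.D.Fi22a.P6.ok
theorem allP7 : pt.chkRange rels 0 4728 = true := PT.chkRange_join (lo := 0) (a := 4137) (b := 591) _ allP6 Cfsg.Agent.Lib.TC.D.Fi22a.P7.ok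
theorem allP8 : pt.chkRange rels 0 5319 = true := PT.chkRange_join (lo := 0) (a := 4728) (b := 591) _ allP7 Cfsg.Agent.Lib.TC.D.Fi22a.P8.ok
theorem allP9 : pt.chkRange rels 0 5910 = true := PT.chkRange_join (lo := 0) (a := 5319) (b := 591) _ allP8 Cfsg.Agent.Lib.TC.D.Fi22a.P9.ok
theorem allP10 : pt.chkRange rels 0 6501 = true := PT.chkRange_join (lo := 0) (a := 5910) (b := 591) _ allP9 Cfsg.Agent.Lib.TC.D.Fi22a.P10.ok
theorem allP11 : pt.chkRange rels 0 7092 = true := PT.chkRange_join (lo := 0) (a := 6501) (b := 591) _ allP10 Cfsg.Agent.Lib.TC.D.Fi22a.P11.ok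
theorem allP12 : pt.chkRange rels 0 7683 = true := PT.chkRange_join (lo := 0) (a := 7092) (b := 591) _ allP11 Cfsg.Agent.Lib.TC.D.Fi22a.P12.ok
theorem allP13 : pt.chkRange rels 0 8274 = true := PT.chkRange_join (lo := 0) (a := 7683) (b := 591) _ allP12 Cfsg.Agent.Lib.TC.D.Fi22a.P13.ok
theorem allP14 : pt.chkRange rels 0 8865 = true := PT.chkRange_join (lo := 0) (a := 8274) (b := 591) _ allP13 Cfsg.Agent.Lib.TC.D.Fi22a.P14.ok
theorem allP15 : pt.chkRange rels 0 9456 = true := PT.chkRange_join (lo := 0) (a := 8865) (b := 591) _ allP14 Cfsg.Agent.Lib.TC.D.Fi22a.P15.ok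
theorem allP16 : pt.chkRange rels 0 10047 = true := PT.chkRange_join (lo := 0) (a := 9456) (b := 591) _ allP15 Cfsg.Agent.Lib.TC.D.Fi22a.P16.ok
theorem allP17 : pt.chkRange rels 0 10638 = true := PT.chkRange_join (lo := 0) (a := 10047) (b := 591) _ allP16 Cfsg.Agent.Lib.TC.D.Fi22a.P17.ok
theorem allP18 : pt.chkRange rels 0 11229 = true := PT.chkRange_join (lo := 0) (a := 10638) (b := 591) _ allP17 Cfsg.Agent.Lib.TC.D.Fi22a.P18.ok
theorem allP19 : pt.chkRange rels 0 11820 = true := PT.chkRange_join (lo := 0) (a := 11229) (b := 591) _ allP18 Cfsg.Agent.Lib.TC.D.Fi22a.P19.ok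
theorem allP20 : pt.chkRange rels 0 12411 = true := PT.chkRange_join (lo := 0) (a := 11820) (b := 591) _ allP19 Cfsg.Agent.Lib.TC.D.Fi22a.P20.ok
theorem allP21 : pt.chkRange rels 0 13002 = true := PT.chkRange_join (lo := 0) (a := 12411) (b := 591) _ allP20 Cfsg.Agent.Lib.TC.D.Fi22a.P21.ok
theorem allP22 : pt.chkRange rels 0 13593 = true := PT.chkRange_join (lo := 0) (a := 13002) (b := 591) _ allP21 Cfsg.Agent.Lib.TC.D.Fi22a.P22.ok
theorem allP23 : pt.chkRange rels 0 14080 = true := PT.chkRange_join (lo := 0) (a := 13593) (b := 487) _ allP22 Cfsg.Agent.Lib.TC.D.Fi22a.P23.ok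

theorem hFinal : cert.chkFinal 0 18211 = true := by decide +kernel

theorem h0 : cert.eLvl (cert.par (cert.find cert.MAX cert.D 0)) = cert.MAX := by decide +kernel

theorem hcount : cert.countRoots cert.N = pt.n := by
  rw [countRoots_eq_acc]
  decide +kernel

theorem hgood : pt.Good rels where
  hpos := by decide
  hinv := by decide +kernel
  hrels := by decide +kernel
  hchk := allP23

theorem hchecked : Checked cert where
  hN := by decide
  hC := allC4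
  hF := hFinal
  h0 := h0

theorem hsubs : subW.map K.word = subs := by decide +kernel

theorem ok : Ok K Rel cert pt rels subs witT.get where
  hK := valid
  hCk := by decide
  hPk := by decide
  hPinv := fun _ => rfl
  hR := hR
  hrels := hrels
  hG := hgood
  hsubk := by decide +kernel
  hsub0 := by decide +kernel
  h1 := by decide +kernel
  h2 := by decide +kernel
  hC := hchecked
  hcount := hcount

end Cfsg.Agent.Lib.TC.D.Fi22a.Ok
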