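import Cfsg.Agent.Lib.TC.G.Fi22
import Cfsg.Agent.Lib.TC.D.Fi22a.CT0
import Cfsg.Agent.Lib.TC.D.Fi22a.PT0

namespace Cfsg.Agent.Lib.TC.D.Fi22a.Tab

open Cfsg.Agent.Lib.TC.Core Cfsg.Agent.Lib.TC.Enc Cfsg.Agent.Lib.TC.Pres Cfsg.Agent.Lib.TC.Perm Cfsg.Agent.Lib.TC.Main

set_option maxRecDepth 100000

/-- The chunks of the certificate. -/
noncomputable def ctree : Tr Nat := Cfsg.Agent.Lib.TC.D.Fi22a.CT0.tree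

/-- The relator rotations. -/
noncomputable def rotT : Tr (List Nat) := (Tr.node (Tr.node (Tr.node (Tr.node (Tr.node (Tr.node (Tr.node (Tr.leaf []) (Tr.leaf [6,4,6,4])) (Tr.node (Tr.leaf [5,1,5,1]) (Tr.leaf [2,3,8,7,3,5,4,3,1,2,3,8,7,3,5,4,3,1,2,3,8,7,3,5,4,3,1,2,3,8,7,3,5,4,3,1,2,3,8,7,3,5,4,3,1,2,3,8,7,3,5,4,3,1,2,3,8,7,3,5,4,3,1,2,3,8,7,3,5,4,3,1,2,3,8,7,3,5,4,3,1,2,3,8,7,3,5,4,3,1]))) (Tr.node (Tr.node (Tr.leaf [4,0,4,0]) (Tr.leaf [8,7,8,7,8,7])) (Tr.node (Tr.leaf [7,2,7,2]) (Tr.leaf [0,7,5,4,3,2,1,0,7,5,4,3,2,1,0,7,5,4,3,2,1,0,7,5,4,3,2,1,0,7,5,4,3,2,1,0,7,5,4,3,2,1,0,7,5,4,3,2,1,0,7,5,4,3,2,1,0,7,5,4,3,2,1])))) (Tr.node (Tr.node (Tr.node (Tr.leaf [7,7]) (Tr.leaf [7,5,7,5])) (Tr.node (Tr.leaf [3,2,3,2,3,2])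 (Tr.leaf [4,3,2,1,0,7,5,4,3,2,1,0,7,5,4,3,2,1,0,7,5,4,3,2,1,0,7,5,4,3,2,1,0,7,5,4,3,2,1,0,7,5,4,3,2,1,0,7,5,4,3,2,1,0,7,5,4,3,2,1,0,7,5]))) (Tr.node (Tr.node (Tr.leaf [8,0,8,0]) (Tr.leaf [5,4,3,1,2,3,8,7,3,5,4,3,1,2,3,8,7,3,5,4,3,1,2,3,8,7,3,5,4,3,1,2,3,8,7,3,5,4,3,1,2,3,8,7,3,5,4,3,1,2,3,8,7,3,5,4,3,1,2,3,8,7,3,5,4,3,1,2,3,8,7,3,5,4,3,1,2,3,8,7,3,5,4,3,1,2,3,8,7,3])) (Tr.node (Tr.leaf [6,3,6,3]) (Tr.leaf [4,3,2,1,7,6,5,4,3,2,1,7,6,5,4,3,2,1,7,6,5,4,3,2,1,7,6,5,4,3,2,1,7,6,5,4,3,2,1,7,6,5,4,3,2,1,7,6,5,4,3,2,1,7,6,5,4,3,2,1,7,6,5]))))) (Tr.node (Tr.node (Tr.node (Tr.node (Tr.leaf [3,3]) (Tr.leaf [8,4,8,4])) (Tr.node (Tr.leaf [7,1,7,1]) (Tr.leaf [7,5,4,3,2,1,0,7,5,4,3,2,1,0,7,5,4,3,2,1,0,7,5,4,3,2,1,0,7,5,4,3,2,1,0,7,5,4,3,2,1,0,7,5,4,3,2,1,0,7,5,4,3,2,1,0,7,5,4,3,2,1,0])))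 (Tr.node (Tr.node (Tr.leaf [6,0,6,0]) (Tr.leaf [7,3,5,4,3,1,2,3,8,7,3,5,4,3,1,2,3,8,7,3,5,4,3,1,2,3,8,7,3,5,4,3,1,2,3,8,7,3,5,4,3,1,2,3,8,7,3,5,4,3,1,2,3,8,7,3,5,4,3,1,2,3,8,7,3,5,4,3,1,2,3,8,7,3,5,4,3,1,2,3,8,7,3,5,4,3,1,2,3,8])) (Tr.node (Tr.leaf [4,3,4,3,4,3]) (Tr.leaf [6,5,4,3,2,1,7,6,5,4,3,2,1,7,6,5,4,3,2,1,7,6,5,4,3,2,1,7,6,5,4,3,2,1,7,6,5,4,3,2,1,7,6,5,4,3,2,1,7,6,5,4,3,2,1,7,6,5,4,3,2,1,7])))) (Tr.node (Tr.node (Tr.node (Tr.leaf [2,0,2,0]) (Tr.leaf [7,6,7,6])) (Tr.node (Tr.leaf [5,2,5,2]) (Tr.leaf [2,1,0,7,5,4,3,2,1,0,7,5,4,3,2,1,0,7,5,4,3,2,1,0,7,5,4,3,2,1,0,7,5,4,3,2,1,0,7,5,4,3,2,1,0,7,5,4,3,2,1,0,7,5,4,3,2,1,0,7,5,4,3]))) (Tr.node (Tr.node (Tr.leaf [3,1,3,1]) (Tr.leaf [3,1,2,3,8,7,3,5,4,3,1,2,3,8,7,3,5,4,3,1,2,3,8,7,3,5,4,3,1,2,3,8,7,3,5,4,3,1,2,3,8,7,3,5,4,3,1,2,3,8,7,3,5,4,3,1,2,3,8,7,3,5,4,3,1,2,3,8,7,3,5,4,3,1,2,3,8,7,3,5,4,3,1,2,3,8,7,3,5,4]))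 (Tr.node (Tr.leaf [8,3,8,3]) (Tr.leaf [2,1,7,6,5,4,3,2,1,7,6,5,4,3,2,1,7,6,5,4,3,2,1,7,6,5,4,3,2,1,7,6,5,4,3,2,1,7,6,5,4,3,2,1,7,6,5,4,3,2,1,7,6,5,4,3,2,1,7,6,5,4,3])))))) (Tr.node (Tr.node (Tr.node (Tr.node (Tr.node (Tr.leaf [1,1]) (Tr.leaf [7,4,7,4])) (Tr.node (Tr.leaf [6,1,6,1]) (Tr.leaf [3,8,7,3,5,4,3,1,2,3,8,7,3,5,4,3,1,2,3,8,7,3,5,4,3,1,2,3,8,7,3,5,4,3,1,2,3,8,7,3,5,4,3,1,2,3,8,7,3,5,4,3,1,2,3,8,7,3,5,4,3,1,2,3,8,7,3,5,4,3,1,2,3,8,7,3,5,4,3,1,2,3,8,7,3,5,4,3,1,2]))) (Tr.node (Tr.node (Tr.leaf [5,0,5,0]) (Tr.leaf [8,7,3,5,4,3,1,2,3,8,7,3,5,4,3,1,2,3,8,7,3,5,4,3,1,2,3,8,7,3,5,4,3,1,2,3,8,7,3,5,4,3,1,2,3,8,7,3,5,4,3,1,2,3,8,7,3,5,4,3,1,2,3,8,7,3,5,4,3,1,2,3,8,7,3,5,4,3,1,2,3,8,7,3,5,4,3,1,2,3])) (Tr.node (Tr.leaf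 [8,2,8,2]) (Tr.leaf [7,6,5,4,3,2,1,7,6,5,4,3,2,1,7,6,5,4,3,2,1,7,6,5,4,3,2,1,7,6,5,4,3,2,1,7,6,5,4,3,2,1,7,6,5,4,3,2,1,7,6,5,4,3,2,1,7,6,5,4,3,2,1])))) (Tr.node (Tr.node (Tr.node (Tr.leaf [1,0,1,0,1,0]) (Tr.leaf [8,5,8,5])) (Tr.node (Tr.leaf [4,2,4,2]) (Tr.leaf [3,2,1,0,7,5,4,3,2,1,0,7,5,4,3,2,1,0,7,5,4,3,2,1,0,7,5,4,3,2,1,0,7,5,4,3,2,1,0,7,5,4,3,2,1,0,7,5,4,3,2,1,0,7,5,4,3,2,1,0,7,5,4]))) (Tr.node (Tr.node (Tr.leaf [2,1,2,1,2,1]) (Tr.leaf [4,3,1,2,3,8,7,3,5,4,3,1,2,3,8,7,3,5,4,3,1,2,3,8,7,3,5,4,3,1,2,3,8,7,3,5,4,3,1,2,3,8,7,3,5,4,3,1,2,3,8,7,3,5,4,3,1,2,3,8,7,3,5,4,3,1,2,3,8,7,3,5,4,3,1,2,3,8,7,3,5,4,3,1,2,3,8,7,3,5])) (Tr.node (Tr.leaf [7,3,7,3,7,3]) (Tr.leaf [3,2,1,7,6,5,4,3,2,1,7,6,5,4,3,2,1,7,6,5,4,3,2,1,7,6,5,4,3,2,1,7,6,5,4,3,2,1,7,6,5,4,3,2,1,7,6,5,4,3,2,1,7,6,5,4,3,2,1,7,6,5,4])))))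 (Tr.node (Tr.node (Tr.node (Tr.node (Tr.leaf [5,5]) (Tr.leaf [6,5,6,5,6,5])) (Tr.node (Tr.leaf [8,1,8,1]) (Tr.leaf [5,4,3,2,1,0,7,5,4,3,2,1,0,7,5,4,3,2,1,0,7,5,4,3,2,1,0,7,5,4,3,2,1,0,7,5,4,3,2,1,0,7,5,4,3,2,1,0,7,5,4,3,2,1,0,7,5,4,3,2,1,0,7]))) (Tr.node (Tr.node (Tr.leaf [7,0,7,0]) (Tr.leaf [3,5,4,3,1,2,3,8,7,3,5,4,3,1,2,3,8,7,3,5,4,3,1,2,3,8,7,3,5,4,3,1,2,3,8,7,3,5,4,3,1,2,3,8,7,3,5,4,3,1,2,3,8,7,3,5,4,3,1,2,3,8,7,3,5,4,3,1,2,3,8,7,3,5,4,3,1,2,3,8,7,3,5,4,3,1,2,3,8,7])) (Tr.node (Tr.leaf [5,3,5,3]) (Tr.leaf [5,4,3,2,1,7,6,5,4,3,2,1,7,6,5,4,3,2,1,7,6,5,4,3,2,1,7,6,5,4,3,2,1,7,6,5,4,3,2,1,7,6,5,4,3,2,1,7,6,5,4,3,2,1,7,6,5,4,3,2,1,7,6])))) (Tr.node (Tr.node (Tr.node (Tr.leaf [3,0,3,0]) (Tr.leaf [8,6,8,6])) (Tr.node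 (Tr.leaf [6,2,6,2]) (Tr.leaf [1,0,7,5,4,3,2,1,0,7,5,4,3,2,1,0,7,5,4,3,2,1,0,7,5,4,3,2,1,0,7,5,4,3,2,1,0,7,5,4,3,2,1,0,7,5,4,3,2,1,0,7,5,4,3,2,1,0,7,5,4,3,2]))) (Tr.node (Tr.node (Tr.leaf [4,1,4,1]) (Tr.leaf [1,2,3,8,7,3,5,4,3,1,2,3,8,7,3,5,4,3,1,2,3,8,7,3,5,4,3,1,2,3,8,7,3,5,4,3,1,2,3,8,7,3,5,4,3,1,2,3,8,7,3,5,4,3,1,2,3,8,7,3,5,4,3,1,2,3,8,7,3,5,4,3,1,2,3,8,7,3,5,4,3,1,2,3,8,7,3,5,4,3])) (Tr.node (Tr.leaf [5,4,5,4,5,4]) (Tr.leaf [1,7,6,5,4,3,2,1,7,6,5,4,3,2,1,7,6,5,4,3,2,1,7,6,5,4,3,2,1,7,6,5,4,3,2,1,7,6,5,4,3,2,1,7,6,5,4,3,2,1,7,6,5,4,3,2,1,7,6,5,4,3,2]))))))) (Tr.node (Tr.node (Tr.node (Tr.node (Tr.node (Tr.node (Tr.leaf [0,0]) (Tr.leaf [4,6,4,6])) (Tr.node (Tr.leaf [1,5,1,5]) (Tr.leaf [7,8,3,2,1,3,4,5,3,7,8,3,2,1,3,4,5,3,7,8,3,2,1,3,4,5,3,7,8,3,2,1,3,4,5,3,7,8,3,2,1,3,4,5,3,7,8,3,2,1,3,4,5,3,7,8,3,2,1,3,4,5,3,7,8,3,2,1,3,4,5,3,7,8,3,2,1,3,4,5,3,7,8,3,2,1,3,4,5,3])))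 (Tr.node (Tr.node (Tr.leaf [0,4,0,4]) (Tr.leaf [7,8,7,8,7,8])) (Tr.node (Tr.leaf [2,7,2,7]) (Tr.leaf [7,0,1,2,3,4,5,7,0,1,2,3,4,5,7,0,1,2,3,4,5,7,0,1,2,3,4,5,7,0,1,2,3,4,5,7,0,1,2,3,4,5,7,0,1,2,3,4,5,7,0,1,2,3,4,5,7,0,1,2,3,4,5])))) (Tr.node (Tr.node (Tr.node (Tr.leaf [8,8]) (Tr.leaf [5,7,5,7])) (Tr.node (Tr.leaf [2,3,2,3,2,3]) (Tr.leaf [2,3,4,5,7,0,1,2,3,4,5,7,0,1,2,3,4,5,7,0,1,2,3,4,5,7,0,1,2,3,4,5,7,0,1,2,3,4,5,7,0,1,2,3,4,5,7,0,1,2,3,4,5,7,0,1,2,3,4,5,7,0,1]))) (Tr.node (Tr.node (Tr.leaf [0,8,0,8]) (Tr.leaf [3,4,5,3,7,8,3,2,1,3,4,5,3,7,8,3,2,1,3,4,5,3,7,8,3,2,1,3,4,5,3,7,8,3,2,1,3,4,5,3,7,8,3,2,1,3,4,5,3,7,8,3,2,1,3,4,5,3,7,8,3,2,1,3,4,5,3,7,8,3,2,1,3,4,5,3,7,8,3,2,1,3,4,5,3,7,8,3,2,1])) (Tr.node (Tr.leaf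 [3,6,3,6]) (Tr.leaf [4,5,6,7,1,2,3,4,5,6,7,1,2,3,4,5,6,7,1,2,3,4,5,6,7,1,2,3,4,5,6,7,1,2,3,4,5,6,7,1,2,3,4,5,6,7,1,2,3,4,5,6,7,1,2,3,4,5,6,7,1,2,3]))))) (Tr.node (Tr.node (Tr.node (Tr.node (Tr.leaf [4,4]) (Tr.leaf [4,8,4,8])) (Tr.node (Tr.leaf [1,7,1,7]) (Tr.leaf [0,1,2,3,4,5,7,0,1,2,3,4,5,7,0,1,2,3,4,5,7,0,1,2,3,4,5,7,0,1,2,3,4,5,7,0,1,2,3,4,5,7,0,1,2,3,4,5,7,0,1,2,3,4,5,7,0,1,2,3,4,5,7]))) (Tr.node (Tr.node (Tr.leaf [0,6,0,6]) (Tr.leaf [2,1,3,4,5,3,7,8,3,2,1,3,4,5,3,7,8,3,2,1,3,4,5,3,7,8,3,2,1,3,4,5,3,7,8,3,2,1,3,4,5,3,7,8,3,2,1,3,4,5,3,7,8,3,2,1,3,4,5,3,7,8,3,2,1,3,4,5,3,7,8,3,2,1,3,4,5,3,7,8,3,2,1,3,4,5,3,7,8,3])) (Tr.node (Tr.leaf [3,4,3,4,3,4]) (Tr.leaf [2,3,4,5,6,7,1,2,3,4,5,6,7,1,2,3,4,5,6,7,1,2,3,4,5,6,7,1,2,3,4,5,6,7,1,2,3,4,5,6,7,1,2,3,4,5,6,7,1,2,3,4,5,6,7,1,2,3,4,5,6,7,1]))))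 (Tr.node (Tr.node (Tr.node (Tr.leaf [0,2,0,2]) (Tr.leaf [6,7,6,7])) (Tr.node (Tr.leaf [2,5,2,5]) (Tr.leaf [4,5,7,0,1,2,3,4,5,7,0,1,2,3,4,5,7,0,1,2,3,4,5,7,0,1,2,3,4,5,7,0,1,2,3,4,5,7,0,1,2,3,4,5,7,0,1,2,3,4,5,7,0,1,2,3,4,5,7,0,1,2,3]))) (Tr.node (Tr.node (Tr.leaf [1,3,1,3]) (Tr.leaf [5,3,7,8,3,2,1,3,4,5,3,7,8,3,2,1,3,4,5,3,7,8,3,2,1,3,4,5,3,7,8,3,2,1,3,4,5,3,7,8,3,2,1,3,4,5,3,7,8,3,2,1,3,4,5,3,7,8,3,2,1,3,4,5,3,7,8,3,2,1,3,4,5,3,7,8,3,2,1,3,4,5,3,7,8,3,2,1,3,4])) (Tr.node (Tr.leaf [3,8,3,8]) (Tr.leaf [6,7,1,2,3,4,5,6,7,1,2,3,4,5,6,7,1,2,3,4,5,6,7,1,2,3,4,5,6,7,1,2,3,4,5,6,7,1,2,3,4,5,6,7,1,2,3,4,5,6,7,1,2,3,4,5,6,7,1,2,3,4,5])))))) (Tr.node (Tr.node (Tr.node (Tr.node (Tr.node (Tr.leaf [2,2]) (Tr.leaf [4,7,4,7]))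 (Tr.node (Tr.leaf [1,6,1,6]) (Tr.leaf [8,3,2,1,3,4,5,3,7,8,3,2,1,3,4,5,3,7,8,3,2,1,3,4,5,3,7,8,3,2,1,3,4,5,3,7,8,3,2,1,3,4,5,3,7,8,3,2,1,3,4,5,3,7,8,3,2,1,3,4,5,3,7,8,3,2,1,3,4,5,3,7,8,3,2,1,3,4,5,3,7,8,3,2,1,3,4,5,3,7]))) (Tr.node (Tr.node (Tr.leaf [0,5,0,5]) (Tr.leaf [3,2,1,3,4,5,3,7,8,3,2,1,3,4,5,3,7,8,3,2,1,3,4,5,3,7,8,3,2,1,3,4,5,3,7,8,3,2,1,3,4,5,3,7,8,3,2,1,3,4,5,3,7,8,3,2,1,3,4,5,3,7,8,3,2,1,3,4,5,3,7,8,3,2,1,3,4,5,3,7,8,3,2,1,3,4,5,3,7,8])) (Tr.node (Tr.leaf [2,8,2,8]) (Tr.leaf [1,2,3,4,5,6,7,1,2,3,4,5,6,7,1,2,3,4,5,6,7,1,2,3,4,5,6,7,1,2,3,4,5,6,7,1,2,3,4,5,6,7,1,2,3,4,5,6,7,1,2,3,4,5,6,7,1,2,3,4,5,6,7])))) (Tr.node (Tr.node (Tr.node (Tr.leaf [0,1,0,1,0,1]) (Tr.leaf [5,8,5,8])) (Tr.node (Tr.leaf [2,4,2,4])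 (Tr.leaf [3,4,5,7,0,1,2,3,4,5,7,0,1,2,3,4,5,7,0,1,2,3,4,5,7,0,1,2,3,4,5,7,0,1,2,3,4,5,7,0,1,2,3,4,5,7,0,1,2,3,4,5,7,0,1,2,3,4,5,7,0,1,2]))) (Tr.node (Tr.node (Tr.leaf [1,2,1,2,1,2]) (Tr.leaf [4,5,3,7,8,3,2,1,3,4,5,3,7,8,3,2,1,3,4,5,3,7,8,3,2,1,3,4,5,3,7,8,3,2,1,3,4,5,3,7,8,3,2,1,3,4,5,3,7,8,3,2,1,3,4,5,3,7,8,3,2,1,3,4,5,3,7,8,3,2,1,3,4,5,3,7,8,3,2,1,3,4,5,3,7,8,3,2,1,3])) (Tr.node (Tr.leaf [3,7,3,7,3,7]) (Tr.leaf [5,6,7,1,2,3,4,5,6,7,1,2,3,4,5,6,7,1,2,3,4,5,6,7,1,2,3,4,5,6,7,1,2,3,4,5,6,7,1,2,3,4,5,6,7,1,2,3,4,5,6,7,1,2,3,4,5,6,7,1,2,3,4]))))) (Tr.node (Tr.node (Tr.node (Tr.node (Tr.leaf [6,6]) (Tr.leaf [5,6,5,6,5,6])) (Tr.node (Tr.leaf [1,8,1,8]) (Tr.leaf [1,2,3,4,5,7,0,1,2,3,4,5,7,0,1,2,3,4,5,7,0,1,2,3,4,5,7,0,1,2,3,4,5,7,0,1,2,3,4,5,7,0,1,2,3,4,5,7,0,1,2,3,4,5,7,0,1,2,3,4,5,7,0])))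 (Tr.node (Tr.node (Tr.leaf [0,7,0,7]) (Tr.leaf [1,3,4,5,3,7,8,3,2,1,3,4,5,3,7,8,3,2,1,3,4,5,3,7,8,3,2,1,3,4,5,3,7,8,3,2,1,3,4,5,3,7,8,3,2,1,3,4,5,3,7,8,3,2,1,3,4,5,3,7,8,3,2,1,3,4,5,3,7,8,3,2,1,3,4,5,3,7,8,3,2,1,3,4,5,3,7,8,3,2])) (Tr.node (Tr.leaf [3,5,3,5]) (Tr.leaf [3,4,5,6,7,1,2,3,4,5,6,7,1,2,3,4,5,6,7,1,2,3,4,5,6,7,1,2,3,4,5,6,7,1,2,3,4,5,6,7,1,2,3,4,5,6,7,1,2,3,4,5,6,7,1,2,3,4,5,6,7,1,2])))) (Tr.node (Tr.node (Tr.node (Tr.leaf [0,3,0,3]) (Tr.leaf [6,8,6,8])) (Tr.node (Tr.leaf [2,6,2,6]) (Tr.leaf [5,7,0,1,2,3,4,5,7,0,1,2,3,4,5,7,0,1,2,3,4,5,7,0,1,2,3,4,5,7,0,1,2,3,4,5,7,0,1,2,3,4,5,7,0,1,2,3,4,5,7,0,1,2,3,4,5,7,0,1,2,3,4]))) (Tr.node (Tr.node (Tr.leaf [1,4,1,4]) (Tr.leaf [3,7,8,3,2,1,3,4,5,3,7,8,3,2,1,3,4,5,3,7,8,3,2,1,3,4,5,3,7,8,3,2,1,3,4,5,3,7,8,3,2,1,3,4,5,3,7,8,3,2,1,3,4,5,3,7,8,3,2,1,3,4,5,3,7,8,3,2,1,3,4,5,3,7,8,3,2,1,3,4,5,3,7,8,3,2,1,3,4,5]))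 (Tr.node (Tr.leaf [4,5,4,5,4,5]) (Tr.leaf [7,1,2,3,4,5,6,7,1,2,3,4,5,6,7,1,2,3,4,5,6,7,1,2,3,4,5,6,7,1,2,3,4,5,6,7,1,2,3,4,5,6,7,1,2,3,4,5,6,7,1,2,3,4,5,6,7,1,2,3,4,5,6]))))))))

/-- The subgroup rotations. -/
noncomputable def srotT : Tr (List Nat × Nat × List Nat) := (Tr.node (Tr.node (Tr.node (Tr.leaf ([],1,[])) (Tr.leaf ([],5,[]))) (Tr.node (Tr.leaf ([],3,[])) (Tr.leaf ([],7,[])))) (Tr.node (Tr.node (Tr.leaf ([],2,[])) (Tr.leaf ([],6,[]))) (Tr.node (Tr.leaf ([],4,[])) (Tr.leaf ([],8,[])))))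

/-- The certificate. -/
noncomputable def cert : Cert :=
  mkCert 9 18211 148196 4 128 136 4 15 518 48 432 499 281474976710655 147573952589676412927 18 15 262143 32767 33 30 15 ctree.get rotT.get srotT.get

/-- The chunks of the table. -/
noncomputable def ptree : Tr Nat := Cfsg.Agent.Lib.TC.D.Fi22a.PT0.tree

/-- The table. -/
noncomputable def pt : PT :=
  mkPT 14080 9 5 31 11 14 16383 ptree.get Cfsg.Agent.Lib.TC.G.Fi22.invF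

/-- The witnesses of the rotations. -/
noncomputable def witT : Tr (Nat × Nat × Bool) := (Tr.node (Tr.node (Tr.node (Tr.node (Tr.node (Tr.node (Tr.node (Tr.leaf (0,0,false)) (Tr.leaf (32,0,false))) (Tr.node (Tr.leaf (13,0,false)) (Tr.leaf (45,7,false)))) (Tr.node (Tr.node (Tr.leaf (4,0,false)) (Tr.leaf (43,0,false))) (Tr.node (Tr.leaf (22,0,false)) (Tr.leaf (46,6,false))))) (Tr.node (Tr.node (Tr.node (Tr.leaf (42,0,false)) (Tr.leaf (37,0,false))) (Tr.node (Tr.leaf (18,0,false)) (Tr.leaf (46,2,false)))) (Tr.node (Tr.node (Tr.leaf (8,0,false)) (Tr.leaf (45,3,false))) (Tr.node (Tr.leaf (27,0,false)) (Tr.leaf (47,3,false)))))) (Tr.node (Tr.node (Tr.node (Tr.node (Tr.leaf (24,0,false)) (Tr.leaf (34,0,false))) (Tr.node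 (Tr.leaf (15,0,false)) (Tr.leaf (46,0,false)))) (Tr.node (Tr.node (Tr.leaf (6,0,false)) (Tr.leaf (45,1,false))) (Tr.node (Tr.leaf (25,0,false)) (Tr.leaf (47,1,false))))) (Tr.node (Tr.node (Tr.node (Tr.leaf (2,0,false)) (Tr.leaf (40,0,false))) (Tr.node (Tr.leaf (20,0,false)) (Tr.leaf (46,4,false)))) (Tr.node (Tr.node (Tr.leaf (11,0,false)) (Tr.leaf (45,5,false))) (Tr.node (Tr.leaf (29,0,false)) (Tr.leaf (47,5,false))))))) (Tr.node (Tr.node (Tr.node (Tr.node (Tr.node (Tr.leaf (9,0,false)) (Tr.leaf (33,0,false))) (Tr.node (Tr.leaf (14,0,false)) (Tr.leaf (45,8,false)))) (Tr.node (Tr.node (Tr.leaf (5,0,false)) (Tr.leaf (45,0,false))) (Tr.node (Tr.leaf (23,0,false)) (Tr.leaf (47,0,false))))) (Tr.node (Tr.node (Tr.node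 (Tr.leaf (1,0,false)) (Tr.leaf (38,0,false))) (Tr.node (Tr.leaf (19,0,false)) (Tr.leaf (46,3,false)))) (Tr.node (Tr.node (Tr.leaf (10,0,false)) (Tr.leaf (45,4,false))) (Tr.node (Tr.leaf (28,0,false)) (Tr.leaf (47,4,false)))))) (Tr.node (Tr.node (Tr.node (Tr.node (Tr.leaf (35,0,false)) (Tr.leaf (36,0,false))) (Tr.node (Tr.leaf (16,0,false)) (Tr.leaf (46,1,false)))) (Tr.node (Tr.node (Tr.leaf (7,0,false)) (Tr.leaf (45,2,false))) (Tr.node (Tr.leaf (26,0,false)) (Tr.leaf (47,2,false))))) (Tr.node (Tr.node (Tr.node (Tr.leaf (3,0,false)) (Tr.leaf (41,0,false))) (Tr.node (Tr.leaf (21,0,false)) (Tr.leaf (46,5,false)))) (Tr.node (Tr.node (Tr.leaf (12,0,false)) (Tr.leaf (45,6,false))) (Tr.node (Tr.leaf (31,0,false)) (Tr.leaf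 (47,6,false)))))))) (Tr.node (Tr.node (Tr.node (Tr.node (Tr.node (Tr.node (Tr.leaf (0,0,false)) (Tr.leaf (32,1,false))) (Tr.node (Tr.leaf (13,1,false)) (Tr.leaf (45,7,true)))) (Tr.node (Tr.node (Tr.leaf (4,1,false)) (Tr.leaf (43,1,false))) (Tr.node (Tr.leaf (22,1,false)) (Tr.leaf (46,6,true))))) (Tr.node (Tr.node (Tr.node (Tr.leaf (44,0,false)) (Tr.leaf (37,1,false))) (Tr.node (Tr.leaf (18,1,false)) (Tr.leaf (46,2,true)))) (Tr.node (Tr.node (Tr.leaf (8,1,false)) (Tr.leaf (45,3,true))) (Tr.node (Tr.leaf (27,1,false)) (Tr.leaf (47,3,true)))))) (Tr.node (Tr.node (Tr.node (Tr.node (Tr.leaf (30,0,false)) (Tr.leaf (34,1,false))) (Tr.node (Tr.leaf (15,1,false)) (Tr.leaf (46,0,true)))) (Tr.node (Tr.node (Tr.leaf (6,1,false))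 (Tr.leaf (45,1,true))) (Tr.node (Tr.leaf (25,1,false)) (Tr.leaf (47,1,true))))) (Tr.node (Tr.node (Tr.node (Tr.leaf (2,1,false)) (Tr.leaf (40,1,false))) (Tr.node (Tr.leaf (20,1,false)) (Tr.leaf (46,4,true)))) (Tr.node (Tr.node (Tr.leaf (11,1,false)) (Tr.leaf (45,5,true))) (Tr.node (Tr.leaf (29,1,false)) (Tr.leaf (47,5,true))))))) (Tr.node (Tr.node (Tr.node (Tr.node (Tr.node (Tr.leaf (17,0,false)) (Tr.leaf (33,1,false))) (Tr.node (Tr.leaf (14,1,false)) (Tr.leaf (45,8,true)))) (Tr.node (Tr.node (Tr.leaf (5,1,false)) (Tr.leaf (45,0,true))) (Tr.node (Tr.leaf (23,1,false)) (Tr.leaf (47,0,true))))) (Tr.node (Tr.node (Tr.node (Tr.leaf (1,1,false)) (Tr.leaf (38,1,false))) (Tr.node (Tr.leaf (19,1,false)) (Tr.leaf (46,3,true))))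 (Tr.node (Tr.node (Tr.leaf (10,1,false)) (Tr.leaf (45,4,true))) (Tr.node (Tr.leaf (28,1,false)) (Tr.leaf (47,4,true)))))) (Tr.node (Tr.node (Tr.node (Tr.node (Tr.leaf (39,0,false)) (Tr.leaf (36,1,false))) (Tr.node (Tr.leaf (16,1,false)) (Tr.leaf (46,1,true)))) (Tr.node (Tr.node (Tr.leaf (7,1,false)) (Tr.leaf (45,2,true))) (Tr.node (Tr.leaf (26,1,false)) (Tr.leaf (47,2,true))))) (Tr.node (Tr.node (Tr.node (Tr.leaf (3,1,false)) (Tr.leaf (41,1,false))) (Tr.node (Tr.leaf (21,1,false)) (Tr.leaf (46,5,true)))) (Tr.node (Tr.node (Tr.leaf (12,1,false)) (Tr.leaf (45,6,true))) (Tr.node (Tr.leaf (31,1,false)) (Tr.leaf (47,6,true)))))))))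

/-- The words of the subgroup. -/
def subW : List (List (Cfsg.Spor.Fi22.Gen × Bool)) :=
  [[(Cfsg.Spor.Fi22.Gen.b,true)],
   [(Cfsg.Spor.Fi22.Gen.c,true)],
   [(Cfsg.Spor.Fi22.Gen.d,true)],
   [(Cfsg.Spor.Fi22.Gen.e,true)],
   [(Cfsg.Spor.Fi22.Gen.f,true)],
   [(Cfsg.Spor.Fi22.Gen.g,true)],
   [(Cfsg.Spor.Fi22.Gen.h,true)],
   [(Cfsg.Spor.Fi22.Gen.i,true)]]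

/-- The words of the subgroup, as columns. -/
def subs : List (List Nat) :=
  [[1],[2],[3],[4],[5],[6],[7],[8]]


end Cfsg.Agent.Lib.TC.D.Fi22a.Tab
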